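import Cfsg.Agent.Gh.X1b
import Cfsg.Agent.Gh.X2
import Cfsg.Agent.Gh.X3
import Cfsg.Agent.Gh.X4

/-!
The exits, collected.
-/
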