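import Cfsg.Agent.Gh.X0
import Cfsg.Agent.Gh.X1
import Cfsg.Agent.S3102
import Cfsg.Agent.S1742
import Cfsg.Agent.S3100
import Cfsg.Agent.S1059
import Cfsg.Agent.S1067
import Cfsg.Agent.NC.H
import Cfsg.Agent.Dce.Ly.Main
import Cfsg.Agent.Comp.Mat

/-!
The exits: no normal elementary subgroup of order eight, and the type `G₂(3)`.
-/

set_option autoImplicit false

namespace CF.Gh
open Subgroup Cfsg CF.Loc CF.GH2
open scoped commutatorElement

variable {G : Type*} [Group G] [Finite G] [IsSimpleGroup G] {S : Subgroup G} {a s : G}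

theorem Xp.o_g {F : Type*} [Field F] [Fintype F] (o : Odd (Fintype.card F)) (P : Sylow 2 G)
    (h : ∃ Q : Sylow 2 (Lie.chevG2.group F), Nonempty (P ≃* Q)) : Out G := by
  obtain ⟨Q, h⟩ := h
  rcases Agent.S1742.result o P Q h with ⟨K, _, _, k, ⟨e⟩⟩ | ⟨K, _, _, r, k, c, ⟨e⟩⟩ | ⟨⟨e⟩⟩
  · have := Fintype.one_lt_card (α := K)
    exact .inr (.inl ⟨‹_›, _, Fintype.isPrimePow_card_of_field, by obtain ⟨_, k⟩ := k; omega,
      (Nat.card_congr e.toEquiv).trans ((Agent.S1059.result rfl).trans (mul_right_comm ..))⟩)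
  · have p : IsPrimePow r := (isPrimePow_pow_iff three_ne_zero).1 (c ▸ Fintype.isPrimePow_card_of_field)
    exact .inr (.inr (.inl ⟨‹_›, r, p, (Nat.card_congr e.toEquiv).trans ((Agent.S1067.result p c).trans (by ring))⟩))
  · iterate 15 right
    exact .inl ⟨‹_›, (Nat.card_congr e.toEquiv).trans Comp.Mat.card_M12⟩

open Xp

variable (hG : ¬ IsMulCommutative G) (h4 : SectionalPRankLE 2 4 G) (sy : IsSyl 2 S ⊤)
include hG h4 sy
set_option linter.unusedSectionVars false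

theorem out_8 (h8 : ∀ E ≤ S, S ≤ 𝐍(E) → El E → Nat.card E ≠ 8) {U : Subgroup G} (l : U ≤ S) (n : S ≤ 𝐍(U)) (e : El U)
    (c : Nat.card U = 4) (k : ∀ u ∈ U, ∀ v ∈ U, u ≠ 1 → v ≠ 1 → IsConj u v) : Out G := by
  refine (em _).elim .inl fun h3 => ?_
  obtain ⟨P, rfl⟩ := sy.exists_sylow_top
  have s := Ab2.ns_top hG
  rcases Agent.S3102.result (fun N _ => s.index_ne N) (fun z h => GW.Iv.ne_one h.1 (s.eq_one (mem_top z) fun x _ => by
      have := Invol.isolated_sup_centralizer h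
      rw [show pPrimeCore 2 G = ⊥ from Sig.oddCore_eq.trans s.O, bot_sup_eq] at this
      exact Up.mem_c.1 (this.ge (mem_top x)))) P (fun r => by
      obtain ⟨E, lE, ea, cE⟩ := Ree.exists_big h3 (BG.syl_sylow_top P)
      exact cE.not_ge ((Nat.card_congr (subgroupOfEquivOfLe lE).toEquiv).ge.trans (r _
        (le_centralizer_iff_isMulCommutative.1 fun x hx y hy => Subtype.ext (ea.abel hx _ hy))
        fun x hx => Subtype.ext (ea.pow _ hx))))
    (fun E nE ea => card_map_of_injective (K := E) P.1.subtype_injective ▸ h8 _ (map_subtype_le _)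
      (fun x hx => mem_normalizer_of_conj_mem (by rintro _ ⟨y, hy, rfl⟩; exact ⟨_, nE.conj_mem y hy ⟨x, hx⟩, rfl⟩))
      (by rintro _ ⟨y, hy, rfl⟩; exact congrArg Subtype.val ((pow_two y).symm.trans (ea.2 y hy))))
    (U.subgroupOf P) (Invol.isKleinFour_iff.2 ⟨(Nat.card_congr (subgroupOfEquivOfLe l).toEquiv).trans c,
      fun x hx => Subtype.ext (e _ hx)⟩) (normal_subgroupOf_of_le_normalizer n)
    (fun u hu v hv u1 v1 => k _ hu _ hv (fun j => u1 (Subtype.ext j)) fun j => v1 (Subtype.ext j)) with ⟨K, _, _, c, h⟩ | h | h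
  · exact o_g (Nat.odd_iff.2 (by omega)) P h
  · iterate 19 right
    exact (NC.isJ P h).imp_right .inl
  · obtain ⟨e⟩ := Agent.S3100.result hG P h
    iterate 22 right
    exact ⟨‹_›, (Nat.card_congr e.toEquiv).trans Dce.Ly.isLy.2⟩

theorem out_G {k : G} (o : orderOf a = 4) (c : a * (s * a * s⁻¹) = s * a * s⁻¹ * a) (n : s * (a * a) * s⁻¹ ≠ a * a)
    (kk : k * k = 1) (ss : s * s = 1) (ks : k * s = s * k) (ka : k * a * k⁻¹ = a⁻¹) (e : S = closure {a, k, s}) :
    Out G := by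
  obtain ⟨P, rfl⟩ := sy.exists_sylow_top
  have := Fact.mk Nat.prime_three
  obtain ⟨p, he, ⟨m, om, em⟩, ν, h⟩ := N8.exists_g2 (F := ZMod 3) (by decide)
  have n2 : p.n = 2 := by
    have h1 := p.hn
    have h2 : 2 ^ (p.n + 1) ∣ 2 ^ 3 := ⟨m, em⟩
    have := (Nat.pow_dvd_pow_iff_le_right one_lt_two).1 h2
    omega
  have a4 : a ^ 2 ^ p.n = 1 := by rw [n2, ← pow_orderOf_eq_one a, o]; rfl
  have b4 : (s * a * s⁻¹) ^ 2 ^ p.n = 1 := by rw [conj_pow, a4]; group
  have w : ∀ {x : G}, x ^ 2 ^ p.n = 1 → Invol.zmodPow x p.w = x * x := fun {x} hx => by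
    rw [N8.Par.w, Invol.zh, ← Int.cast_natCast, Invol.zmodPow_intCast hx, n2, zpow_natCast, ← pow_two]; rfl
  obtain ⟨φ, f1, f2, f3⟩ := N8.GT.exists_lift a4 c rfl ss kk ks (by
    rw [he, ka]; simpa using (Invol.zmodPow_intCast a4 (-1)).symm)
  have : Finite (Lie.chevG2.group (ZMod 3)) := Finite.of_injective _ Subtype.val_injective
  have aS : a ∈ P.1 := e.ge (subset_closure (by simp))
  have kS : k ∈ P.1 := e.ge (subset_closure (by simp))
  have sS : s ∈ P.1 := e.ge (subset_closure (by simp))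
  refine o_g (F := ZMod 3) (by decide) P (N8.equiv_of h (φ := φ) (N8.GT.inj_of fun j => n ?_) (le_antisymm ?_ ?_))
  · rw [f1, w a4, w b4, conj_mul] at j
    rw [← eq_inv_of_mul_eq_one_right j |>.symm, Up.inv_of (by rw [← Bp.p4, ← pow_orderOf_eq_one a, o]; rfl)]
  · rintro _ ⟨⟨x, y, i, j⟩, rfl⟩
    have h1 : φ (.A x y) ∈ P.1 := f1 x y ▸ mul_mem (zpowers_le.2 aS (Invol.zmodPow_mem_zpowers ..))
      (zpowers_le.2 (mul_mem (mul_mem sS aS) (inv_mem sS)) (Invol.zmodPow_mem_zpowers ..))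
    have h2 := mul_mem h1 (f2 ▸ kS)
    have h3 := mul_mem h1 (f3 ▸ sS)
    have h4 := mul_mem h2 (f3 ▸ sS)
    simp only [← map_mul] at h2 h3 h4
    cases i <;> cases j
    exacts [h1, by convert h3 using 2; simp, by convert h2 using 2; simp, by convert h4 using 2; simp]
  · rw [e, closure_le]
    rintro _ (rfl | rfl | rfl)
    · exact ⟨.A 1 0, by
        rw [f1, ← Int.cast_one, ← Int.cast_zero, Invol.zmodPow_intCast a4, Invol.zmodPow_intCast b4]; simp⟩
    exacts [⟨_, f2⟩, ⟨_, f3⟩]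

end CF.Gh
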